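import Cfsg.Agent.Lib.Chars.Char

/-!
# The centre of the commutant counts the constituents

For a complex representation `ρ` of a finite group, the centre of its commutant has dimension
the number of irreducible constituents of its character.
-/

set_option autoImplicit false
set_option linter.style.haveILetI false
set_option linter.unusedSectionVars false

noncomputable section

namespace CfsgLib.Chev.HeckeCenter

open Module Cfsg CfsgLib.Chars

universe u v

variable {G : Type u} [Group G] [Fintype G]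
variable {V : Type v} [AddCommGroup V] [Module ℂ V] [FiniteDimensional ℂ V]

/-- The centre of the commutant of a representation. -/
def centre (ρ : Representation ℂ G V) : Submodule ℂ (End ℂ V) where
  carrier := {z | (∀ g, Commute z (ρ g)) ∧ ∀ a : End ℂ V, (∀ g, Commute a (ρ g)) → Commute z a}
  zero_mem' := ⟨fun g => Commute.zero_left _, fun a _ => Commute.zero_left _⟩
  add_mem' hx hy := ⟨fun g => (hx.1 g).add_left (hy.1 g), fun a ha => (hx.2 a ha).add_left (hy.2 a ha)⟩
  smul_mem' c x hx := ⟨fun g => (hx.1 g).smul_left c, fun a ha => (hx.2 a ha).smul_left c⟩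

/-- The class function of the central idempotent of an irreducible character. -/
def idemFun (χ : IrrCharacter G) : G → ℂ :=
  ((χ : G → ℂ) 1 / (Nat.card G : ℂ)) • (χ : G → ℂ)

theorem isClassFunction_idemFun (χ : IrrCharacter G) : IsClassFunction G (idemFun χ) :=
  isClassFunction_smul _ (isClassFunction_of_isCharacter (isCharacter_of_irr χ.2))

theorem avgOp_idemFun_irr {n : ℕ} (σ : Representation ℂ G (Fin n → ℂ)) [σ.IsIrreducible]
    (χ : IrrCharacter G) [Decidable ((χ : G → ℂ) = σ.character)] :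
    avgOp σ (idemFun χ) = if (χ : G → ℂ) = σ.character then 1 else 0 := by
  obtain ⟨c, hc, hc'⟩ := avgOp_eq_scalar σ (isClassFunction_idemFun χ)
  have hne : (finrank ℂ (Fin n → ℂ) : ℂ) ≠ 0 :=
    Nat.cast_ne_zero.2 (finrank_pos_of_isIrreducible σ).ne'
  have hG : (Nat.card G : ℂ) ≠ 0 := card_ne_zero G
  rw [idemFun, CfsgLib.Chars.inner_smul_left, ← mul_assoc, mul_div_cancel₀ _ hG,
    inner_irr_of_isIrr χ.2 ⟨n, σ, ‹_›, rfl⟩] at hc'
  rw [hc]
  split_ifs with h
  · rw [if_pos h, mul_one, h, Representation.char_one] at hc'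
    rw [mul_right_cancel₀ hne (hc'.trans (one_mul _).symm), one_smul]
    rfl
  · rw [if_neg h, mul_zero, mul_eq_zero, or_iff_left hne] at hc'
    rw [hc', zero_smul]

theorem avgOp_intertwine {U : Type*} [AddCommGroup U] [Module ℂ U] {σ : Representation ℂ G U}
    {ρ : Representation ℂ G V} (T : σ.IntertwiningMap ρ) (f : G → ℂ) :
    avgOp ρ f ∘ₗ T.toLinearMap = T.toLinearMap ∘ₗ avgOp σ f := by
  refine LinearMap.ext fun x => ?_
  simp only [LinearMap.comp_apply, avgOp_apply, map_sum, map_smul]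
  exact Finset.sum_congr rfl fun g _ => by
    rw [show T.toLinearMap (σ g⁻¹ x) = ρ g⁻¹ (T.toLinearMap x) from T.isIntertwining _ _ _ _]

theorem avgOp_mem_centre (ρ : Representation ℂ G V) {f : G → ℂ} (hf : IsClassFunction G f) :
    avgOp ρ f ∈ centre ρ := by
  refine ⟨fun g => LinearMap.ext fun x => avgOp_comm ρ hf g x, fun a ha => ?_⟩
  rw [avgOp]
  exact Commute.sum_left _ _ _ fun g _ => ((ha g⁻¹).symm).smul_left _

/-- An injective intertwining map has an intertwining left inverse. -/
theorem exists_leftInverse {U : Type*} [AddCommGroup U] [Module ℂ U] {σ : Representation ℂ G U}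
    {ρ : Representation ℂ G V} (T : σ.IntertwiningMap ρ) (hT : Function.Injective T) :
    ∃ p : V →ₗ[ℂ] U, (∀ g x, p (ρ g x) = σ g (p x)) ∧ p ∘ₗ T.toLinearMap = LinearMap.id := by
  obtain ⟨p₀, hp₀⟩ := T.toLinearMap.exists_leftInverse_of_injective (LinearMap.ker_eq_bot.2 hT)
  refine ⟨(Nat.card G : ℂ)⁻¹ • ∑ h : G, σ h⁻¹ ∘ₗ p₀ ∘ₗ ρ h, fun g x => ?_, LinearMap.ext fun x => ?_⟩
  · simp only [LinearMap.smul_apply, LinearMap.sum_apply, LinearMap.comp_apply, map_smul, map_sum]
    congr 1
    refine Fintype.sum_equiv (Equiv.mulRight g) _ _ fun h => ?_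
    simp only [Equiv.coe_mulRight, mul_inv_rev, map_mul, Module.End.mul_apply]
    rw [← Module.End.mul_apply (σ g) (σ g⁻¹), ← map_mul, mul_inv_cancel, map_one,
      Module.End.one_apply]
  · have key : ∀ h, σ h⁻¹ (p₀ (ρ h (T.toLinearMap x))) = x := fun h => by
      rw [show ρ h (T.toLinearMap x) = T.toLinearMap (σ h x) from (T.isIntertwining _ _ h x).symm]
      show σ h⁻¹ ((p₀ ∘ₗ T.toLinearMap) (σ h x)) = x
      rw [hp₀, LinearMap.id_apply, ← Module.End.mul_apply, ← map_mul, inv_mul_cancel, map_one,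
        Module.End.one_apply]
    simp only [LinearMap.smul_apply, LinearMap.sum_apply, LinearMap.comp_apply, key,
      Finset.sum_const, Finset.card_univ, LinearMap.id_apply]
    rw [← Nat.cast_smul_eq_nsmul ℂ, ← Nat.card_eq_fintype_card, smul_smul,
      inv_mul_cancel₀ (card_ne_zero G), one_smul]

/-- A central element of the commutant is a scalar on each irreducible type. -/
theorem centre_scalar {ρ : Representation ℂ G V} {z : End ℂ V} (hz : z ∈ centre ρ)
    (χ : IrrCharacter G) :
    ∃ c : ℂ, ∀ (n : ℕ) (σ : Representation ℂ G (Fin n → ℂ)), σ.IsIrreducible →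
      σ.character = (χ : G → ℂ) → ∀ T : σ.IntertwiningMap ρ,
      z ∘ₗ T.toLinearMap = c • T.toLinearMap := by
  obtain ⟨n₀, σ₀, hσ₀, hχ⟩ := χ.2
  by_cases h0 : ∀ T : σ₀.IntertwiningMap ρ, T = 0
  · refine ⟨0, fun n σ _ hσc T => ?_⟩
    obtain ⟨e⟩ := CfsgLib.Chars.equiv_of_character_eq σ₀ σ (hχ.trans hσc.symm)
    have h1 := h0 (T.comp e.toIntertwiningMap)
    have hT : T.toLinearMap = 0 := LinearMap.ext fun x => by
      obtain ⟨y, rfl⟩ := e.toLinearEquiv.surjective x
      exact DFunLike.congr_fun h1 y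
    simp [hT]
  push Not at h0
  obtain ⟨T₀, hT₀⟩ := h0
  have hinj : Function.Injective T₀ :=
    (Representation.IsIrreducible.injective_or_eq_zero T₀).resolve_right hT₀
  obtain ⟨p, hp, hpT⟩ := exists_leftInverse T₀ hinj
  have hTint : ∀ g x, T₀.toLinearMap (σ₀ g x) = ρ g (T₀.toLinearMap x) :=
    fun g x => T₀.isIntertwining _ _ g x
  let S : σ₀.IntertwiningMap σ₀ := ⟨p ∘ₗ z ∘ₗ T₀.toLinearMap, fun g => LinearMap.ext fun x => by
    show p (z (T₀.toLinearMap (σ₀ g x))) = σ₀ g (p (z (T₀.toLinearMap x)))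
    rw [hTint, ← Module.End.mul_apply, (hz.1 g).eq, Module.End.mul_apply, hp]⟩
  obtain ⟨c, hc⟩ :=
    (Representation.IsIrreducible.algebraMap_intertwiningMap_bijective_of_isAlgClosed (ρ := σ₀)).2 S
  have hc' : ∀ x, p (z (T₀.toLinearMap x)) = c • x := fun x => by
    have := (congrArg (fun u => u x) hc).symm
    simpa [S, Algebra.algebraMap_eq_smul_one] using this
  have hz0 : ∀ T : σ₀.IntertwiningMap ρ, ∀ x, z (T.toLinearMap x) = c • T.toLinearMap x := by
    intro T x
    have hcomm : ∀ (T' : σ₀.IntertwiningMap ρ), Commute z (T'.toLinearMap ∘ₗ p) := fun T' =>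
      hz.2 _ fun g => LinearMap.ext fun y => by
        show T'.toLinearMap (p (ρ g y)) = ρ g (T'.toLinearMap (p y))
        rw [hp]
        exact T'.isIntertwining _ _ g (p y)
    have hid : ∀ y, p (T₀.toLinearMap y) = y := fun y => LinearMap.congr_fun hpT y
    have e1 := LinearMap.congr_fun (hcomm T).eq (T₀.toLinearMap x)
    have e2 := LinearMap.congr_fun (hcomm T₀).eq (T₀.toLinearMap x)
    simp only [Module.End.mul_apply, LinearMap.comp_apply, hid, hc'] at e1 e2
    rw [e1, map_smul]
  refine ⟨c, fun n σ _ hσc T => LinearMap.ext fun x => ?_⟩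
  obtain ⟨e⟩ := CfsgLib.Chars.equiv_of_character_eq σ₀ σ (hχ.trans hσc.symm)
  obtain ⟨y, rfl⟩ := e.toLinearEquiv.surjective x
  exact hz0 (T.comp e.toIntertwiningMap) y

/-- Intertwining maps from irreducible representations detect linear maps. -/
theorem detect {V₀ : Type v} [AddCommGroup V₀] [Module ℂ V₀] (ρ : Representation ℂ G V)
    (D : V →ₗ[ℂ] V₀)
    (h : ∀ (n : ℕ) (σ : Representation ℂ G (Fin n → ℂ)), σ.IsIrreducible →
      ∀ T : σ.IntertwiningMap ρ, D ∘ₗ T.toLinearMap = 0) : D = 0 := by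
  revert D
  refine rep_induction (P := fun V _ _ _ ρ => ∀ D : V →ₗ[ℂ] V₀,
    (∀ (n : ℕ) (σ : Representation ℂ G (Fin n → ℂ)), σ.IsIrreducible →
      ∀ T : σ.IntertwiningMap ρ, D ∘ₗ T.toLinearMap = 0) → D = 0) ?_ ?_ ?_ V ρ
  · intro V _ _ _ ρ hV D _
    exact LinearMap.ext fun x => by simp [Subsingleton.elim x 0]
  · intro V _ _ _ ρ hρ D hD
    obtain ⟨n, σ, hσ, hc⟩ := isIrrCharacter_character ρ
    obtain ⟨e⟩ := CfsgLib.Chars.equiv_of_character_eq σ ρ hc
    refine LinearMap.ext fun x => ?_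
    obtain ⟨y, rfl⟩ := e.toLinearEquiv.surjective x
    exact LinearMap.congr_fun (hD n σ hσ e.toIntertwiningMap) y
  · intro V _ _ _ ρ U U' hc hU hU' D hD
    have key : ∀ (S : Subrepresentation ρ),
        (∀ D : S.toSubmodule →ₗ[ℂ] V₀, (∀ (n : ℕ) (σ : Representation ℂ G (Fin n → ℂ)),
          σ.IsIrreducible → ∀ T : σ.IntertwiningMap S.toRepresentation,
            D ∘ₗ T.toLinearMap = 0) → D = 0) → ∀ x ∈ S.toSubmodule, D x = 0 := by
      intro S hS x hx
      have := hS (D ∘ₗ S.toSubmodule.subtype) fun n σ hσ T => by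
        have h2 := hD n σ hσ ⟨S.toSubmodule.subtype ∘ₗ T.toLinearMap, fun g => LinearMap.ext fun y =>
          congrArg Subtype.val (T.isIntertwining _ _ g y)⟩
        exact h2
      exact LinearMap.congr_fun this ⟨x, hx⟩
    refine LinearMap.ext fun x => ?_
    have hx : x ∈ U.toSubmodule ⊔ U'.toSubmodule := by rw [hc.sup_eq_top]; trivial
    obtain ⟨a, ha, b, hb, rfl⟩ := Submodule.mem_sup.mp hx
    rw [map_add, key U hU a ha, key U' hU' b hb, LinearMap.zero_apply, add_zero]

theorem finrank_centre (ρ : Representation ℂ G V) :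
    finrank ℂ (centre ρ) =
      Nat.card {χ : IrrCharacter G // classInner ρ.character (χ : G → ℂ) ≠ 0} := by
  classical
  set J := {χ : IrrCharacter G // classInner ρ.character (χ : G → ℂ) ≠ 0} with hJ
  haveI : Fintype J := Fintype.ofFinite _
  let E : J → End ℂ V := fun χ => avgOp ρ (idemFun χ.1)
  have hnz : ∀ (n : ℕ) (σ : Representation ℂ G (Fin n → ℂ)) [σ.IsIrreducible]
      (T : σ.IntertwiningMap ρ), T ≠ 0 → classInner ρ.character σ.character ≠ 0 := by
    intro n σ _ T hT
    rw [inner_character]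
    have : Nontrivial (σ.IntertwiningMap ρ) := ⟨⟨T, 0, hT⟩⟩
    exact Nat.cast_ne_zero.2 Module.finrank_pos.ne'
  have happly : ∀ (n : ℕ) (σ : Representation ℂ G (Fin n → ℂ)) [σ.IsIrreducible]
      (T : σ.IntertwiningMap ρ) (χ : J),
      E χ ∘ₗ T.toLinearMap =
        (if (χ.1 : G → ℂ) = σ.character then (1 : ℂ) else 0) • T.toLinearMap := by
    intro n σ _ T χ
    rw [avgOp_intertwine, avgOp_idemFun_irr]
    split_ifs
    · rw [one_smul]; rfl
    · rw [zero_smul, LinearMap.comp_zero]
  have hli : LinearIndependent ℂ E := by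
    rw [Fintype.linearIndependent_iff]
    intro c hc χ₀
    obtain ⟨n, σ, hσ, hch⟩ := χ₀.1.2
    have hpos : classInner ρ.character σ.character ≠ 0 := by rw [hch]; exact χ₀.2
    rw [inner_character, Nat.cast_ne_zero] at hpos
    haveI := Module.nontrivial_of_finrank_pos (R := ℂ) (Nat.pos_of_ne_zero hpos)
    obtain ⟨T, hT⟩ := exists_ne (0 : σ.IntertwiningMap ρ)
    have h1 := congrArg (fun X : End ℂ V => X ∘ₗ T.toLinearMap) hc
    simp only [LinearMap.zero_comp] at h1
    have h2 : ∑ χ : J, c χ • (E χ ∘ₗ T.toLinearMap) = 0 := by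
      rw [← h1]
      ext x
      simp
    rw [Finset.sum_eq_single χ₀ (fun χ _ hne => ?_) (by simp)] at h2
    · rw [happly n σ T χ₀, if_pos hch.symm, one_smul, smul_eq_zero] at h2
      refine h2.resolve_right fun h => hT (DFunLike.ext _ _ fun x => ?_)
      exact LinearMap.congr_fun h x
    · rw [happly n σ T χ, if_neg (fun h => hne (Subtype.ext (Subtype.ext (h.trans hch)))),
        zero_smul, smul_zero]
  have hspan : centre ρ = Submodule.span ℂ (Set.range E) := by
    refine le_antisymm (fun z hz => ?_) (Submodule.span_le.2 ?_)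
    · choose c hc using fun χ : IrrCharacter G => centre_scalar hz χ
      have key : z - ∑ χ : J, c χ.1 • E χ = 0 := by
        refine detect ρ _ fun n σ hσ T => ?_
        by_cases hT : T = 0
        · subst hT
          exact LinearMap.comp_zero _
        let χσ : IrrCharacter G := ⟨σ.character, n, σ, hσ, rfl⟩
        let χ₀ : J := ⟨χσ, hnz n σ T hT⟩
        have hsum : ∑ χ : J, c χ.1 • (E χ ∘ₗ T.toLinearMap) = c χσ • T.toLinearMap := by
          rw [Finset.sum_eq_single χ₀ (fun χ _ hne => ?_) (by simp)]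
          · rw [happly n σ T χ₀, if_pos rfl, one_smul]
          · rw [happly n σ T χ, if_neg (fun h => hne (Subtype.ext (Subtype.ext h))), zero_smul,
              smul_zero]
        refine LinearMap.ext fun x => ?_
        have e1 := LinearMap.congr_fun (hc χσ n σ hσ rfl T) x
        have e2 := LinearMap.congr_fun hsum x
        simp only [LinearMap.sum_apply, LinearMap.smul_apply, LinearMap.comp_apply] at e1 e2
        show (z - ∑ χ : J, c χ.1 • E χ) (T.toLinearMap x) = 0
        simp only [LinearMap.sub_apply, LinearMap.sum_apply, LinearMap.smul_apply]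
        rw [e1, e2, sub_self]
      rw [sub_eq_zero.1 key]
      exact Submodule.sum_mem _ fun χ _ =>
        Submodule.smul_mem _ _ (Submodule.subset_span ⟨χ, rfl⟩)
    · rintro _ ⟨χ, rfl⟩
      exact avgOp_mem_centre ρ (isClassFunction_idemFun χ.1)
  rw [hspan, finrank_span_eq_card hli, Nat.card_eq_fintype_card]

theorem constituent_iff (ρ : Representation ℂ G V) (χ : IrrCharacter G) :
    (∃ φ : G → ℂ, IsCharacter G φ ∧ ρ.character = (χ : G → ℂ) + φ) ↔
      classInner ρ.character (χ : G → ℂ) ≠ 0 := by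
  obtain ⟨n, σ, hσ, hch⟩ := χ.2
  constructor
  · rintro ⟨φ, hφ, e⟩
    obtain ⟨m, hm⟩ := inner_irr_right_nat hφ χ
    rw [e, CfsgLib.Chars.inner_add_left, inner_irr_self, hm]
    exact_mod_cast (Nat.succ_ne_zero m) ∘ fun h => by omega
  · intro h
    have hρ : IsCharacter G ρ.character :=
      ⟨finrank ℂ V, transport ρ (Module.finBasis ℂ V).equivFun, character_transport _ _⟩
    refine ⟨ρ.character - χ, isCharacter_iff_inner.2 ⟨isClassFunction_sub
      (isClassFunction_of_isCharacter hρ)
      (isClassFunction_of_isCharacter (isCharacter_of_irr χ.2)), fun ψ => ?_⟩,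
      (add_sub_cancel _ _).symm⟩
    classical
    obtain ⟨a, ha⟩ := inner_irr_right_nat hρ ψ
    rw [CfsgLib.Chars.inner_sub_left, ha, inner_irr]
    split_ifs with e
    · subst e
      have : a ≠ 0 := fun a0 => h (by rw [ha, a0, Nat.cast_zero])
      exact ⟨a - 1, by rw [Nat.cast_sub (Nat.pos_of_ne_zero this), Nat.cast_one]⟩
    · exact ⟨a, sub_zero _⟩

end CfsgLib.Chev.HeckeCenter
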