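import Mathlib

/-!
# The centre of a Hecke algebra has the dimension of the centre of the group algebra

The Hecke algebra of a finite Coxeter datum with real positive parameters is realised by the
operators `L i` on functions on the group; its centre corresponds to the kernel of the
differences `L i - R i`. A Casimir operator shows that this dimension is locally constant along
the path of parameters `k ^ t`, so it equals the number of conjugacy classes (the value at `t = 0`).
-/

set_option autoImplicit false

noncomputable section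

namespace CfsgLib.Chev.HeckeCenter

open Module

/-- A length function and weights on a finite group generated by involutions. -/
structure Datum (W ι : Type*) [Group W] where
  s : ι → W
  len : W → ℕ
  k : W → ℝ
  sq : ∀ i, s i * s i = 1
  len_one : len 1 = 0
  len_inv : ∀ w, len w⁻¹ = len w
  len_step : ∀ i w, len (s i * w) = len w + 1 ∨ len (s i * w) + 1 = len w
  exists_down : ∀ w, w ≠ 1 → ∃ i, len (s i * w) + 1 = len w
  cross : ∀ i j w, len (s i * w) = len w + 1 → len (w * s j) = len w + 1 →
    len (s i * w * s j) = len w → s i * w = w * s j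
  k_pos : ∀ w, 0 < k w
  k_one : k 1 = 1
  k_inv : ∀ w, k w⁻¹ = k w
  k_mul : ∀ i w, len (s i * w) = len w + 1 → k (s i * w) = k (s i) * k w

variable {W ι : Type*} [Group W] (D : Datum W ι)

namespace Datum

lemma s_inv (i : ι) : (D.s i)⁻¹ = D.s i := inv_eq_of_mul_eq_one_right (D.sq i)

lemma ss (i : ι) (w : W) : D.s i * (D.s i * w) = w := by rw [← mul_assoc, D.sq, one_mul]

lemma ww (i : ι) (w : W) : w * D.s i * D.s i = w := by rw [mul_assoc, D.sq, mul_one]

lemma inv_mul_s (i : ι) (w : W) : (w * D.s i)⁻¹ = D.s i * w⁻¹ := by rw [mul_inv_rev, D.s_inv]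

lemma len_step_right (i : ι) (w : W) :
    D.len (w * D.s i) = D.len w + 1 ∨ D.len (w * D.s i) + 1 = D.len w := by
  rw [← D.len_inv (w * D.s i), D.inv_mul_s, ← D.len_inv w]
  exact D.len_step i w⁻¹

lemma cross_down {i j : ι} {w : W} (h1 : D.len (D.s i * w) + 1 = D.len w)
    (h2 : D.len (w * D.s j) + 1 = D.len w) (h3 : D.len (D.s i * w * D.s j) = D.len w) :
    D.s i * w = w * D.s j := by
  have e := D.cross i j (D.s i * w) (by rw [D.ss]; omega) (by omega) (by rw [D.ss]; omega)
  have e2 := congrArg (fun x => x * D.s j) e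
  simp only [D.ss, D.ww] at e2
  exact e2.symm

/-- the parameter of a generator at time `t` -/
def q (i : ι) (t : ℝ) : ℂ := ((D.k (D.s i) ^ t : ℝ) : ℂ)

/-- the weight at time `t` -/
def kt (w : W) (t : ℝ) : ℝ := D.k w ^ t

lemma kt_pos (w : W) (t : ℝ) : 0 < D.kt w t := Real.rpow_pos_of_pos (D.k_pos w) t

lemma q_ne (i : ι) (t : ℝ) : D.q i t ≠ 0 :=
  Complex.ofReal_ne_zero.2 (Real.rpow_pos_of_pos (D.k_pos _) t).ne'

lemma kt_up {i : ι} {w : W} (h : D.len (D.s i * w) = D.len w + 1) (t : ℝ) :
    (D.kt (D.s i * w) t : ℂ) = D.q i t * (D.kt w t : ℂ) := by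
  rw [kt, D.k_mul i w h, Real.mul_rpow (D.k_pos _).le (D.k_pos _).le, Complex.ofReal_mul]
  rfl

lemma q_eq_of_cross {i j : ι} {w : W} (h : D.len (D.s i * w) = D.len w + 1)
    (he : D.s i * w = w * D.s j) (t : ℝ) : D.q i t = D.q j t := by
  have h' : D.len (D.s j * w⁻¹) = D.len w⁻¹ + 1 := by
    rw [← D.inv_mul_s, D.len_inv, D.len_inv, ← he, h]
  have e1 := D.k_mul i w h
  have e2 := D.k_mul j w⁻¹ h'
  rw [← D.inv_mul_s, D.k_inv, D.k_inv, ← he, e1] at e2
  rw [q, q, mul_right_cancel₀ (D.k_pos w).ne' e2]

/-- left multiplication by a generator -/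
def L (i : ι) (t : ℝ) : End ℂ (W → ℂ) where
  toFun v w := if D.len (D.s i * w) < D.len w then (D.q i t - 1) * v w + v (D.s i * w)
    else D.q i t * v (D.s i * w)
  map_add' u v := by ext w; simp only [Pi.add_apply]; split_ifs <;> ring
  map_smul' c v := by
    ext w; simp only [Pi.smul_apply, smul_eq_mul, RingHom.id_apply]; split_ifs <;> ring

/-- right multiplication by a generator -/
def R (i : ι) (t : ℝ) : End ℂ (W → ℂ) where
  toFun v w := if D.len (w * D.s i) < D.len w then (D.q i t - 1) * v w + v (w * D.s i)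
    else D.q i t * v (w * D.s i)
  map_add' u v := by ext w; simp only [Pi.add_apply]; split_ifs <;> ring
  map_smul' c v := by
    ext w; simp only [Pi.smul_apply, smul_eq_mul, RingHom.id_apply]; split_ifs <;> ring

lemma L_apply (i : ι) (t : ℝ) (v : W → ℂ) (w : W) : D.L i t v w =
    if D.len (D.s i * w) < D.len w then (D.q i t - 1) * v w + v (D.s i * w)
    else D.q i t * v (D.s i * w) := rfl

lemma R_apply (i : ι) (t : ℝ) (v : W → ℂ) (w : W) : D.R i t v w =
    if D.len (w * D.s i) < D.len w then (D.q i t - 1) * v w + v (w * D.s i)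
    else D.q i t * v (w * D.s i) := rfl

theorem commute_LR (i j : ι) (t : ℝ) : Commute (D.L i t) (D.R j t) := by
  refine LinearMap.ext fun v => funext fun w => ?_
  show D.L i t (D.R j t v) w = D.R j t (D.L i t v) w
  by_cases he : D.s i * w = w * D.s j
  · have hq : D.q i t = D.q j t := by
      rcases D.len_step i w with h | h
      · exact D.q_eq_of_cross h he t
      · refine D.q_eq_of_cross (w := D.s i * w) (by rw [D.ss]; omega) ?_ t
        rw [D.ss, he, D.ww]
    have h1 : D.s i * w * D.s j = w := by rw [he, D.ww]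
    simp only [L_apply, R_apply, h1, hq, ← mul_assoc (D.s i) w]
    rw [← he]
  · have hc1 := D.cross i j w
    have hc2 : D.len (D.s i * w) + 1 = D.len w → D.len (w * D.s j) + 1 = D.len w →
        D.len (D.s i * w * D.s j) ≠ D.len w := fun a b c => he (D.cross_down a b c)
    have s1 := D.len_step i w
    have s2 := D.len_step_right j w
    have s3 := D.len_step_right j (D.s i * w)
    have s4 := D.len_step i (w * D.s j)
    simp only [L_apply, R_apply, ← mul_assoc (D.s i) w]
    rw [← mul_assoc] at s4
    have hne1 : D.len (D.s i * w * D.s j) ≠ D.len w ∨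
        ¬ ((D.len (D.s i * w) = D.len w + 1) ∧ (D.len (w * D.s j) = D.len w + 1)) := by
      by_contra hcon
      rw [not_or, not_not, not_not] at hcon
      exact he (hc1 hcon.2.1 hcon.2.2 hcon.1)
    split_ifs <;> first | omega | ring

lemma L_sq (i : ι) (t : ℝ) :
    D.L i t * D.L i t = (D.q i t - 1) • D.L i t + D.q i t • 1 := by
  refine LinearMap.ext fun v => funext fun w => ?_
  have := D.len_step i w
  simp only [Module.End.mul_apply, LinearMap.add_apply, LinearMap.smul_apply, Module.End.one_apply,
    Pi.add_apply, Pi.smul_apply, smul_eq_mul, L_apply, D.ss]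
  split_ifs <;> first | omega | ring

lemma R_sq (i : ι) (t : ℝ) :
    D.R i t * D.R i t = (D.q i t - 1) • D.R i t + D.q i t • 1 := by
  refine LinearMap.ext fun v => funext fun w => ?_
  have := D.len_step_right i w
  simp only [Module.End.mul_apply, LinearMap.add_apply, LinearMap.smul_apply, Module.End.one_apply,
    Pi.add_apply, Pi.smul_apply, smul_eq_mul, R_apply, D.ww]
  split_ifs <;> first | omega | ring

lemma key_eq (i : ι) (t : ℝ) :
    (D.L i t - D.R i t) * (D.L i t * D.R i t) = D.q i t • (D.R i t - D.L i t) := by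
  rw [sub_mul, ← mul_assoc, ← mul_assoc, D.L_sq, (D.commute_LR i i t).symm.eq, mul_assoc (D.L i t),
    D.R_sq, add_mul, mul_add, smul_mul_assoc, smul_mul_assoc, mul_smul_comm, mul_smul_comm,
    one_mul, mul_one, smul_sub]
  abel

/-- the basis vectors -/
def e [DecidableEq W] (w : W) : W → ℂ := Pi.single w 1

lemma L_e_up [DecidableEq W] {i : ι} {w : W} (h : D.len (D.s i * w) = D.len w + 1) (t : ℝ) :
    D.L i t (e w) = e (D.s i * w) := by
  funext u
  by_cases h1 : u = D.s i * w
  · subst h1
    have hne : D.s i * w ≠ w := fun c => by rw [c] at h; omega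
    simp [L_apply, D.ss, e, hne, h]
  · have h2 : D.s i * u ≠ w := fun c => h1 (by rw [← c, D.ss])
    by_cases h3 : u = w
    · subst h3
      simp [L_apply, e, h2, h1, show ¬ D.len (D.s i * u) < D.len u by omega]
    · simp [L_apply, e, h1, h2, h3]

lemma R_e_up [DecidableEq W] {i : ι} {w : W} (h : D.len (w * D.s i) = D.len w + 1) (t : ℝ) :
    D.R i t (e w) = e (w * D.s i) := by
  funext u
  by_cases h1 : u = w * D.s i
  · subst h1
    have hne : w * D.s i ≠ w := fun c => by rw [c] at h; omega
    simp [R_apply, D.ww, e, hne, h]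
  · have h2 : u * D.s i ≠ w := fun c => h1 (by rw [← c, D.ww])
    by_cases h3 : u = w
    · subst h3
      simp [R_apply, e, h2, h1, show ¬ D.len (u * D.s i) < D.len u by omega]
    · simp [R_apply, e, h1, h2, h3]

/-- the product of a word -/
def prod (l : List ι) : W := (l.map D.s).prod

lemma prod_cons (i : ι) (l : List ι) : D.prod (i :: l) = D.s i * D.prod l := by simp [prod]

lemma prod_nil : D.prod [] = 1 := rfl

/-- a reduced word -/
def Red (l : List ι) : Prop := D.len (D.prod l) = l.length

lemma len_prod_le : ∀ l : List ι, D.len (D.prod l) ≤ l.length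
  | [] => by simp [prod_nil, D.len_one]
  | i :: l => by
    rw [prod_cons, List.length_cons]
    have := D.len_step i (D.prod l)
    have := len_prod_le l
    omega

lemma Red.tail {i : ι} {l : List ι} (h : D.Red (i :: l)) :
    D.Red l ∧ D.len (D.s i * D.prod l) = D.len (D.prod l) + 1 := by
  rw [Red, prod_cons, List.length_cons] at h
  have := D.len_step i (D.prod l)
  have := D.len_prod_le l
  exact ⟨by rw [Red]; omega, by omega⟩

lemma exists_red : ∀ (n : ℕ) (w : W), D.len w = n → ∃ l, D.Red l ∧ D.prod l = w := by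
  intro n
  induction n using Nat.strong_induction_on with
  | _ n ih =>
    intro w hw
    by_cases h1 : w = 1
    · exact ⟨[], by simp [Red, prod_nil, D.len_one], h1.symm⟩
    · obtain ⟨i, hi⟩ := D.exists_down w h1
      obtain ⟨l, hl, e⟩ := ih _ (by omega) (D.s i * w) rfl
      refine ⟨i :: l, ?_, by rw [prod_cons, e, D.ss]⟩
      rw [Red] at hl
      rw [Red, prod_cons, List.length_cons, e, D.ss, ← hl, e, hi]

/-- a chosen reduced word -/
def red (w : W) : List ι := (D.exists_red _ w rfl).choose

lemma red_spec (w : W) : D.Red (D.red w) ∧ D.prod (D.red w) = w :=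
  (D.exists_red _ w rfl).choose_spec

lemma red_one : D.red 1 = [] := by
  have := (D.red_spec 1).1
  rw [Red, (D.red_spec 1).2, D.len_one] at this
  exact List.length_eq_zero_iff.1 this.symm

/-- the operator of a word -/
def wordL (l : List ι) (t : ℝ) : End ℂ (W → ℂ) := (l.map fun i => D.L i t).prod

/-- the opposite operator of a word -/
def wordR (l : List ι) (t : ℝ) : End ℂ (W → ℂ) := (l.map fun i => D.R i t).prod

lemma wordL_cons (i : ι) (l : List ι) (t : ℝ) :
    D.wordL (i :: l) t = D.L i t * D.wordL l t := by simp [wordL]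

lemma wordR_cons (i : ι) (l : List ι) (t : ℝ) :
    D.wordR (i :: l) t = D.R i t * D.wordR l t := by simp [wordR]

lemma commute_wordL_R (l : List ι) (j : ι) (t : ℝ) : Commute (D.wordL l t) (D.R j t) :=
  Commute.list_prod_left _ _ fun x hx => by
    obtain ⟨i, -, rfl⟩ := List.mem_map.1 hx
    exact D.commute_LR i j t

lemma commute_L_wordR (l : List ι) (i : ι) (t : ℝ) : Commute (D.L i t) (D.wordR l t) :=
  Commute.list_prod_right _ _ fun x hx => by
    obtain ⟨j, -, rfl⟩ := List.mem_map.1 hx
    exact D.commute_LR i j t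

lemma wordL_e [DecidableEq W] (t : ℝ) :
    ∀ {l : List ι}, D.Red l → D.wordL l t (e 1) = e (D.prod l)
  | [], _ => by simp [wordL, prod_nil]
  | i :: l, h => by
    rw [wordL_cons, Module.End.mul_apply, wordL_e t (Red.tail D h).1, prod_cons,
      D.L_e_up (Red.tail D h).2]

lemma wordR_e [DecidableEq W] (t : ℝ) :
    ∀ {l : List ι}, D.Red l → D.wordR l t (e 1) = e (D.prod l)⁻¹
  | [], _ => by simp [wordR, prod_nil]
  | i :: l, h => by
    obtain ⟨h1, h2⟩ := Red.tail D h
    rw [wordR_cons, Module.End.mul_apply, wordR_e t h1, prod_cons, mul_inv_rev, D.s_inv,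
      D.R_e_up (by rw [← D.len_inv, D.inv_mul_s, inv_inv, h2, D.len_inv])]

variable [Fintype W] [DecidableEq W]

/-- operators commuting with all right multiplications are determined at the identity -/
lemma ext_left {A B : End ℂ (W → ℂ)} {t : ℝ} (hA : ∀ j, Commute A (D.R j t))
    (hB : ∀ j, Commute B (D.R j t)) (h : A (e 1) = B (e 1)) : A = B := by
  refine (Pi.basisFun ℂ W).ext fun w => ?_
  rw [Pi.basisFun_apply]
  show A (e w) = B (e w)
  have hw : e w = D.wordR (D.red w⁻¹) t (e 1) := by
    rw [D.wordR_e t (D.red_spec _).1, (D.red_spec _).2, inv_inv]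
  have hc : ∀ {C : End ℂ (W → ℂ)}, (∀ j, Commute C (D.R j t)) →
      Commute C (D.wordR (D.red w⁻¹) t) := fun {C} hC =>
    Commute.list_prod_right _ _ fun x hx => by
      obtain ⟨j, -, rfl⟩ := List.mem_map.1 hx
      exact hC j
  rw [hw, ← Module.End.mul_apply, ← Module.End.mul_apply, (hc hA).eq, (hc hB).eq,
    Module.End.mul_apply, Module.End.mul_apply, h]

/-- operators commuting with all left multiplications are determined at the identity -/
lemma ext_right {A B : End ℂ (W → ℂ)} {t : ℝ} (hA : ∀ j, Commute A (D.L j t))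
    (hB : ∀ j, Commute B (D.L j t)) (h : A (e 1) = B (e 1)) : A = B := by
  refine (Pi.basisFun ℂ W).ext fun w => ?_
  rw [Pi.basisFun_apply]
  show A (e w) = B (e w)
  have hw : e w = D.wordL (D.red w) t (e 1) := by
    rw [D.wordL_e t (D.red_spec _).1, (D.red_spec _).2]
  have hc : ∀ {C : End ℂ (W → ℂ)}, (∀ j, Commute C (D.L j t)) →
      Commute C (D.wordL (D.red w) t) := fun {C} hC =>
    Commute.list_prod_right _ _ fun x hx => by
      obtain ⟨j, -, rfl⟩ := List.mem_map.1 hx
      exact hC j
  rw [hw, ← Module.End.mul_apply, ← Module.End.mul_apply, (hc hA).eq, (hc hB).eq,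
    Module.End.mul_apply, Module.End.mul_apply, h]

omit [Fintype W] [DecidableEq W] in
lemma red_cons {i : ι} {w : W} (h : D.len (D.s i * w) = D.len w + 1) :
    D.Red (i :: D.red w) ∧ D.prod (i :: D.red w) = D.s i * w := by
  have h1 := D.red_spec w
  refine ⟨?_, by rw [prod_cons, h1.2]⟩
  rw [Red, prod_cons, h1.2, h, List.length_cons, ← h1.1, h1.2]

lemma wordL_up {i : ι} {w : W} (h : D.len (D.s i * w) = D.len w + 1) (t : ℝ) :
    D.wordL (D.red (D.s i * w)) t = D.L i t * D.wordL (D.red w) t := by
  rw [← wordL_cons]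
  refine D.ext_left (t := t) (fun j => D.commute_wordL_R _ j t) (fun j => D.commute_wordL_R _ j t) ?_
  rw [D.wordL_e t (D.red_spec _).1, D.wordL_e t (D.red_cons h).1, (D.red_spec _).2, (D.red_cons h).2]

lemma wordR_up {i : ι} {w : W} (h : D.len (D.s i * w) = D.len w + 1) (t : ℝ) :
    D.wordR (D.red (D.s i * w)) t = D.R i t * D.wordR (D.red w) t := by
  rw [← wordR_cons]
  refine D.ext_right (t := t) (fun j => (D.commute_L_wordR _ j t).symm)
    (fun j => (D.commute_L_wordR _ j t).symm) ?_
  rw [D.wordR_e t (D.red_spec _).1, D.wordR_e t (D.red_cons h).1, (D.red_spec _).2, (D.red_cons h).2]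

/-- the Casimir operator -/
def casimir (t : ℝ) : End ℂ (W → ℂ) :=
  ∑ w, ((D.kt w t : ℂ))⁻¹ • (D.wordL (D.red w) t * D.wordR (D.red w) t)

theorem casimir_central (i : ι) (t : ℝ) : (D.L i t - D.R i t) * D.casimir t = 0 := by
  set X := D.L i t - D.R i t with hX
  rw [casimir, Finset.mul_sum]
  have hpair : ∀ w, D.len (D.s i * w) = D.len w + 1 →
      X * (((D.kt w t : ℂ))⁻¹ • (D.wordL (D.red w) t * D.wordR (D.red w) t)) +
      X * (((D.kt (D.s i * w) t : ℂ))⁻¹ •
        (D.wordL (D.red (D.s i * w)) t * D.wordR (D.red (D.s i * w)) t)) = 0 := by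
    intro w h
    have e1 : D.wordL (D.red (D.s i * w)) t * D.wordR (D.red (D.s i * w)) t =
        (D.L i t * D.R i t) * (D.wordL (D.red w) t * D.wordR (D.red w) t) := by
      rw [D.wordL_up h, D.wordR_up h, mul_assoc, ← mul_assoc (D.wordL (D.red w) t),
        (D.commute_wordL_R _ i t).eq]
      simp only [mul_assoc]
    rw [e1, mul_smul_comm, mul_smul_comm]
    set M := D.wordL (D.red w) t * D.wordR (D.red w) t
    rw [← mul_assoc X (D.L i t * D.R i t) M, hX, D.key_eq, D.kt_up h, mul_inv,
      smul_mul_assoc, smul_smul, mul_comm (D.q i t)⁻¹, mul_assoc, inv_mul_cancel₀ (D.q_ne i t),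
      mul_one, ← smul_add, ← add_mul, sub_add_sub_cancel, sub_self, zero_mul, smul_zero]
  refine Finset.sum_involution (fun w _ => D.s i * w) (fun w _ => ?_) (fun w _ _ c => ?_)
    (fun w _ => Finset.mem_univ _) (fun w _ => D.ss i w)
  · rcases D.len_step i w with h | h
    · exact hpair w h
    · have := hpair (D.s i * w) (by rw [D.ss]; omega)
      rw [D.ss] at this
      rw [add_comm]; exact this
  · rcases D.len_step i w with h | h <;> rw [c] at h <;> omega

/-- the differences of left and right multiplications -/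
def diff (t : ℝ) : (W → ℂ) →ₗ[ℂ] (ι → W → ℂ) := LinearMap.pi fun i => D.L i t - D.R i t

omit [Fintype W] [DecidableEq W] in
lemma mem_ker_diff {t : ℝ} {v : W → ℂ} :
    v ∈ LinearMap.ker (D.diff t) ↔ ∀ i, D.L i t v = D.R i t v := by
  rw [LinearMap.mem_ker, funext_iff]
  exact forall_congr' fun i => sub_eq_zero

/-- the weighted form -/
def form (t : ℝ) (u v : W → ℂ) : ℂ := ∑ w, (D.kt w t : ℂ) * u w * starRingEnd ℂ (v w)

omit [DecidableEq W] in
lemma form_L (i : ι) (t : ℝ) (u v : W → ℂ) :
    D.form t (D.L i t u) v = D.form t u (D.L i t v) := by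
  have hconj : starRingEnd ℂ (D.q i t) = D.q i t := Complex.conj_ofReal _
  let a : W → ℂ := fun w => if D.len (D.s i * w) < D.len w then D.q i t - 1 else 0
  let b : W → ℂ := fun w => if D.len (D.s i * w) < D.len w then 1 else D.q i t
  have hL : ∀ (f : W → ℂ) w, D.L i t f w = a w * f w + b w * f (D.s i * w) := by
    intro f w
    simp only [L_apply, a, b]
    split_ifs <;> ring
  have hb : ∀ w, (D.kt (D.s i * w) t : ℂ) * b (D.s i * w) = (D.kt w t : ℂ) * b w := by
    intro w
    have := D.len_step i w
    simp only [b, D.ss]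
    rcases D.len_step i w with h | h
    · rw [if_pos (by omega), if_neg (by omega), D.kt_up h]; ring
    · have h' : D.len (D.s i * (D.s i * w)) = D.len (D.s i * w) + 1 := by rw [D.ss]; omega
      have := D.kt_up h' t
      rw [D.ss] at this
      rw [if_neg (by omega), if_pos (by omega), this]; ring
  have hac : ∀ w, starRingEnd ℂ (a w) = a w := fun w => by simp only [a]; split_ifs <;> simp [hconj]
  have hbc : ∀ w, starRingEnd ℂ (b w) = b w := fun w => by simp only [b]; split_ifs <;> simp [hconj]
  simp only [form, hL, map_add, map_mul, hac, hbc, add_mul, mul_add, Finset.sum_add_distrib]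
  congr 1
  · exact Finset.sum_congr rfl fun w _ => by ring
  · refine Fintype.sum_equiv (Equiv.mulLeft (D.s i)) _ _ fun w => ?_
    simp only [Equiv.coe_mulLeft, D.ss]
    rw [← mul_assoc (D.kt w t : ℂ), ← hb w]
    ring

omit [DecidableEq W] in
lemma form_wordL (t : ℝ) : ∀ (l : List ι) (u v : W → ℂ),
    D.form t (D.wordL l t u) v = D.form t u (D.wordL l.reverse t v)
  | [], u, v => rfl
  | i :: l, u, v => by
    rw [wordL_cons, Module.End.mul_apply, form_L, form_wordL t l, List.reverse_cons, wordL, wordL,
      List.map_append, List.prod_append, List.map_singleton, List.prod_singleton,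
      Module.End.mul_apply]

omit [Fintype W] [DecidableEq W] in
lemma wordR_of_central {t : ℝ} {v : W → ℂ} (h : ∀ i, D.L i t v = D.R i t v) :
    ∀ l : List ι, D.wordR l t v = D.wordL l.reverse t v
  | [] => rfl
  | i :: l => by
    rw [wordR_cons, Module.End.mul_apply, wordR_of_central h l, List.reverse_cons,
      ← Module.End.mul_apply, ← (D.commute_wordL_R _ i t).eq, Module.End.mul_apply, ← h i,
      wordL, wordL, List.map_append, List.prod_append, List.map_singleton, List.prod_singleton,
      Module.End.mul_apply]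

theorem casimir_inj {t : ℝ} {v : W → ℂ} (h : ∀ i, D.L i t v = D.R i t v)
    (h0 : D.casimir t v = 0) : v = 0 := by
  let N : (W → ℂ) → ℝ := fun u => ∑ w, D.kt w t * Complex.normSq (u w)
  have hN : ∀ u, D.form t u u = (N u : ℂ) := fun u => by
    simp only [form, N, Complex.ofReal_sum, Complex.ofReal_mul, mul_assoc, Complex.mul_conj]
  have hN0 : ∀ u, 0 ≤ N u := fun u => Finset.sum_nonneg fun w _ =>
    mul_nonneg (D.kt_pos w t).le (Complex.normSq_nonneg _)
  have hsum : ∑ w, (D.kt w t)⁻¹ * N (D.wordL (D.red w).reverse t v) = 0 := by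
    have e0 : D.form t (D.casimir t v) v = 0 := by simp [h0, form]
    have e1 : ∀ w, D.form t (D.wordL (D.red w) t (D.wordR (D.red w) t v)) v =
        (N (D.wordL (D.red w).reverse t v) : ℂ) := fun w => by
      rw [form_wordL, D.wordR_of_central h, hN]
    have e2 : D.form t (D.casimir t v) v =
        ∑ w, ((D.kt w t : ℂ))⁻¹ * D.form t (D.wordL (D.red w) t (D.wordR (D.red w) t v)) v := by
      simp only [casimir, form, LinearMap.sum_apply, LinearMap.smul_apply, Finset.sum_apply,
        Pi.smul_apply, smul_eq_mul, Module.End.mul_apply, Finset.mul_sum, Finset.sum_mul]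
      rw [Finset.sum_comm]
      exact Finset.sum_congr rfl fun w _ => Finset.sum_congr rfl fun x _ => by ring
    rw [e2] at e0
    simp only [e1] at e0
    exact_mod_cast e0
  have h1 := (Finset.sum_eq_zero_iff_of_nonneg fun w _ =>
    mul_nonneg (inv_nonneg.2 (D.kt_pos w t).le) (hN0 _)).1 hsum 1 (Finset.mem_univ _)
  rw [D.red_one, kt, D.k_one, Real.one_rpow, inv_one, one_mul] at h1
  have h2 : N v = 0 := h1
  funext w
  have := (Finset.sum_eq_zero_iff_of_nonneg fun w _ =>
    mul_nonneg (D.kt_pos w t).le (Complex.normSq_nonneg _)).1 h2 w (Finset.mem_univ _)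
  simpa [(D.kt_pos w t).ne'] using this

theorem finrank_casimir (t : ℝ) :
    finrank ℂ (LinearMap.range (D.casimir t)) = finrank ℂ (LinearMap.ker (D.diff t)) := by
  have hle : LinearMap.range (D.casimir t) ≤ LinearMap.ker (D.diff t) := by
    rintro _ ⟨u, rfl⟩
    rw [mem_ker_diff]
    intro i
    have := LinearMap.congr_fun (D.casimir_central i t) u
    exact sub_eq_zero.1 this
  refine le_antisymm (Submodule.finrank_mono hle) ?_
  let f := (D.casimir t).rangeRestrict.comp (LinearMap.ker (D.diff t)).subtype
  refine LinearMap.finrank_le_finrank_of_injective (f := f) ?_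
  rw [← LinearMap.ker_eq_bot, Submodule.eq_bot_iff]
  intro v hv
  exact Subtype.ext (D.casimir_inj (D.mem_ker_diff.1 v.2) (congrArg Subtype.val hv))

end Datum

/-- The rank of a continuous family of linear maps is lower semicontinuous. -/
theorem isOpen_rank_ge {V V' : Type*} [NormedAddCommGroup V] [NormedSpace ℂ V]
    [FiniteDimensional ℂ V] [NormedAddCommGroup V'] [NormedSpace ℂ V'] [FiniteDimensional ℂ V']
    {f : ℝ → V →ₗ[ℂ] V'} (hf : ∀ v, Continuous fun t => f t v) (r : ℕ) :
    IsOpen {t | r ≤ finrank ℂ (LinearMap.range (f t))} := by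
  refine isOpen_iff_forall_mem_open.2 fun t₀ ht₀ => ?_
  let b := Module.finBasis ℂ (LinearMap.range (f t₀))
  choose v hv using fun i => (b i).2
  refine ⟨(fun t i => f t (v i)) ⁻¹'
      {g : Fin (finrank ℂ (LinearMap.range (f t₀))) → V' | LinearIndependent ℂ g}, ?_,
    isOpen_setOfPred_linearIndependent.preimage (continuous_pi fun i => hf (v i)), ?_⟩
  · intro t ht
    refine le_trans (show r ≤ finrank ℂ (LinearMap.range (f t₀)) from ht₀) ?_
    have hli : LinearIndependent ℂ fun i => f t (v i) := ht
    have h2 : LinearIndependent ℂ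
        fun i => (⟨f t (v i), LinearMap.mem_range_self _ _⟩ : LinearMap.range (f t)) :=
      LinearIndependent.of_comp (LinearMap.range (f t)).subtype hli
    simpa using h2.fintype_card_le_finrank
  · show LinearIndependent ℂ fun i => f t₀ (v i)
    simp only [hv]
    exact b.linearIndependent.map' _ (Submodule.ker_subtype _)

namespace Datum

variable [Fintype W] [DecidableEq W] [Fintype ι]

omit [Fintype W] [DecidableEq W] [Fintype ι] in
lemma continuous_L (i : ι) {f : ℝ → W → ℂ} (hf : Continuous f) :
    Continuous fun t => D.L i t (f t) := by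
  refine continuous_pi fun w => ?_
  simp only [L_apply]
  have hq : Continuous (D.q i) :=
    Complex.continuous_ofReal.comp (Real.continuous_const_rpow (D.k_pos _).ne')
  have hw := fun x => (continuous_apply (A := fun _ : W => ℂ) x).comp hf
  split_ifs
  · exact ((hq.sub continuous_const).mul (hw w)).add (hw _)
  · exact hq.mul (hw _)

omit [Fintype W] [DecidableEq W] [Fintype ι] in
lemma continuous_R (i : ι) {f : ℝ → W → ℂ} (hf : Continuous f) :
    Continuous fun t => D.R i t (f t) := by
  refine continuous_pi fun w => ?_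
  simp only [R_apply]
  have hq : Continuous (D.q i) :=
    Complex.continuous_ofReal.comp (Real.continuous_const_rpow (D.k_pos _).ne')
  have hw := fun x => (continuous_apply (A := fun _ : W => ℂ) x).comp hf
  split_ifs
  · exact ((hq.sub continuous_const).mul (hw w)).add (hw _)
  · exact hq.mul (hw _)

omit [Fintype W] [DecidableEq W] [Fintype ι] in
lemma continuous_wordL : ∀ (l : List ι) {f : ℝ → W → ℂ}, Continuous f →
    Continuous fun t => D.wordL l t (f t)
  | [], _, hf => hf
  | i :: l, f, hf => by
    simp only [wordL_cons, Module.End.mul_apply]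
    exact D.continuous_L i (continuous_wordL l hf)

omit [Fintype W] [DecidableEq W] [Fintype ι] in
lemma continuous_wordR : ∀ (l : List ι) {f : ℝ → W → ℂ}, Continuous f →
    Continuous fun t => D.wordR l t (f t)
  | [], _, hf => hf
  | i :: l, f, hf => by
    simp only [wordR_cons, Module.End.mul_apply]
    exact D.continuous_R i (continuous_wordR l hf)

theorem finrank_ker_eq (s t : ℝ) :
    finrank ℂ (LinearMap.ker (D.diff s)) = finrank ℂ (LinearMap.ker (D.diff t)) := by
  have hc1 : ∀ v, Continuous fun t => D.casimir t v := by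
    intro v
    simp only [casimir, LinearMap.sum_apply, LinearMap.smul_apply, Module.End.mul_apply]
    refine continuous_finsetSum _ fun w _ => Continuous.smul (f := fun t => ((D.kt w t : ℂ))⁻¹)
      (g := fun t => D.wordL (D.red w) t (D.wordR (D.red w) t v)) ?_
      (D.continuous_wordL _ (D.continuous_wordR _ continuous_const))
    exact (Complex.continuous_ofReal.comp (Real.continuous_const_rpow (D.k_pos w).ne')).inv₀
      fun t => Complex.ofReal_ne_zero.2 (D.kt_pos w t).ne'
  have hc2 : ∀ v, Continuous fun t => D.diff t v := fun v => continuous_pi fun i =>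
    (D.continuous_L i continuous_const).sub (D.continuous_R i continuous_const)
  refine IsLocallyConstant.apply_eq_of_preconnectedSpace
    (f := fun t => finrank ℂ (LinearMap.ker (D.diff t))) ?_ s t
  refine (IsLocallyConstant.iff_eventually_eq _).2 fun x => ?_
  have n1 := (isOpen_rank_ge hc1 (finrank ℂ (LinearMap.ker (D.diff x)))).mem_nhds
    (Set.mem_ofPred.2 (D.finrank_casimir x).ge)
  have n2 := (isOpen_rank_ge hc2 (finrank ℂ (LinearMap.range (D.diff x)))).mem_nhds
    (Set.mem_ofPred.2 le_rfl)
  filter_upwards [n1, n2] with y h1 h2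
  have e1 := (D.diff x).finrank_range_add_finrank_ker
  have e2 := (D.diff y).finrank_range_add_finrank_ker
  rw [D.finrank_casimir] at h1
  omega

omit [Fintype W] [DecidableEq W] [Fintype ι] in
lemma mem_ker_diff_zero {v : W → ℂ} :
    v ∈ LinearMap.ker (D.diff 0) ↔ ∀ i w, v (D.s i * w) = v (w * D.s i) := by
  rw [mem_ker_diff]
  simp [funext_iff, L_apply, R_apply, q]

omit [DecidableEq W] [Fintype ι] in
theorem finrank_ker_zero :
    finrank ℂ (LinearMap.ker (D.diff 0)) = Nat.card (ConjClasses W) := by
  classical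
  have key : ∀ v : W → ℂ, v ∈ LinearMap.ker (D.diff 0) → ∀ g w, v (g * w * g⁻¹) = v w := by
    intro v hv g
    rw [mem_ker_diff_zero] at hv
    obtain ⟨l, -, rfl⟩ := D.exists_red _ g rfl
    induction l with
    | nil => intro w; simp [prod_nil]
    | cons i l ih =>
      intro w
      rw [prod_cons, mul_inv_rev, D.s_inv]
      have := hv i (D.prod l * w * (D.prod l)⁻¹ * D.s i)
      rw [D.ww, ih] at this
      rw [← this]
      simp only [mul_assoc]
  let f : (ConjClasses W → ℂ) →ₗ[ℂ] (W → ℂ) := LinearMap.funLeft ℂ ℂ ConjClasses.mk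
  have hinj : Function.Injective f := LinearMap.funLeft_injective_of_surjective ℂ ℂ _
    ConjClasses.mk_surjective
  have hrange : LinearMap.range f = LinearMap.ker (D.diff 0) := by
    ext v
    constructor
    · rintro ⟨c, rfl⟩
      rw [mem_ker_diff_zero]
      intro i w
      show c (ConjClasses.mk _) = c (ConjClasses.mk _)
      congr 1
      rw [ConjClasses.mk_eq_mk_iff_isConj, isConj_iff]
      exact ⟨D.s i, by rw [D.s_inv, D.ss]⟩
    · intro hv
      refine ⟨fun c => Quotient.liftOn c v fun a b hab => ?_, rfl⟩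
      obtain ⟨g, rfl⟩ := isConj_iff.1 hab
      exact (key v hv g a).symm
  rw [← hrange, LinearMap.finrank_range_of_inj hinj, finrank_fintype_fun_eq_card,
    Nat.card_eq_fintype_card]

/-- The centre of the deformed algebra has one dimension per conjugacy class. -/
theorem finrank_ker_one :
    finrank ℂ (LinearMap.ker (D.diff 1)) = Nat.card (ConjClasses W) := by
  rw [D.finrank_ker_eq 1 0, D.finrank_ker_zero]

end Datum

end CfsgLib.Chev.HeckeCenter
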