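import Cfsg.Agent.Lib.Chev.BNCoxeter
import Cfsg.Agent.Lib.Chev.FH.Hecke
import Cfsg.Agent.Lib.Chev.HeckeCenter.Deform
import Cfsg.Agent.Lib.Chev.HeckeCenter.Constituents
import Cfsg.Prelude.Def_ParabolicCharacters

/-!
# Constituents of the permutation character on the Borel subgroup

For a finite group with a (B,N)-pair the irreducible constituents of the permutation character
on `G/B` are as many as the conjugacy classes of the Weyl group.
-/

set_option autoImplicit false
set_option linter.unusedSectionVars false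
set_option linter.style.haveILetI false

noncomputable section

namespace CfsgLib.Chev.HeckeCenter

open Cfsg CfsgLib.Chev.BN CfsgLib.Chev.FH Module Matrix

variable {G : Type*} [Group G] [Fintype G] (P : Cfsg.BNPair G)
  [hN : ((P.B ⊓ P.N).subgroupOf P.N).Normal]

/-- The Weyl group of the pair. -/
abbrev WG : Type _ := P.N ⧸ (P.B ⊓ P.N).subgroupOf P.N

/-- A representative of a Weyl group element. -/
def rep (w : WG P) : G := ((w.out : P.N) : G)

/-- The length on the Weyl group. -/
def wlen (w : WG P) : ℕ := len P (rep P w)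

variable {P}

lemma rep_mem (w : WG P) : rep P w ∈ P.N := w.out.2

lemma eqv_rep {n : G} (hn : n ∈ P.N) :
    Eqv P (rep P (QuotientGroup.mk (⟨n, hn⟩ : P.N) : WG P)) n :=
  mk_eq_iff.1 (QuotientGroup.out_eq' _)

lemma mk_rep (w : WG P) : (QuotientGroup.mk (⟨rep P w, rep_mem w⟩ : P.N) : WG P) = w :=
  QuotientGroup.out_eq' _

lemma wlen_mk {n : G} (hn : n ∈ P.N) : wlen P (QuotientGroup.mk (⟨n, hn⟩ : P.N) : WG P) = len P n :=
  len_congr (eqv_rep hn)

lemma eqv_rep_mul (s : P.S) (w : WG P) : Eqv P (rep P (wMap P s * w)) ((s : G) * rep P w) := by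
  have h := eqv_rep (P := P) (mul_mem (P.subset s.2) (rep_mem w))
  have e : (QuotientGroup.mk (⟨(s : G) * rep P w, mul_mem (P.subset s.2) (rep_mem w)⟩ : P.N) : WG P)
      = wMap P s * w := by
    conv_rhs => rw [← mk_rep w, wMap, ← QuotientGroup.mk_mul]
    rfl
  rwa [e] at h

lemma wlen_mul (s : P.S) (w : WG P) : wlen P (wMap P s * w) = len P ((s : G) * rep P w) :=
  len_congr (eqv_rep_mul s w)

lemma wlen_step (s : P.S) (w : WG P) :
    wlen P (wMap P s * w) = wlen P w + 1 ∨ wlen P (wMap P s * w) + 1 = wlen P w := by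
  rw [wlen_mul]
  have h1 := len_S_mul_le s.2 (rep_mem w)
  have h2 := len_le_S_mul s.2 (rep_mem w)
  have h3 := len_S_mul_ne s.2 (rep_mem w)
  simp only [wlen] at *
  omega

lemma exists_wword (w : WG P) :
    ∃ l : List P.S, l.length = wlen P w ∧ (l.map (wMap P)).prod = w := by
  obtain ⟨l, hl, e⟩ := exists_word_subtype (P := P) (rep_mem w)
  refine ⟨l, hl, ?_⟩
  rw [wMap_prod]
  conv_rhs => rw [← mk_rep w]
  exact mk_eq_iff.2 e

lemma wlen_le (l : List P.S) : wlen P ((l.map (wMap P)).prod) ≤ l.length := by
  rw [wMap_prod, wlen_mk]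
  simpa using len_le (P := P) (l := l.map Subtype.val) val_mem (eqv_refl _)

lemma wMap_mul_self (s : P.S) : wMap P s * wMap P s = 1 := (wMap_props (P := P)).1 s

lemma wlen_inv (w : WG P) : wlen P w⁻¹ = wlen P w := by
  have key : ∀ w : WG P, wlen P w⁻¹ ≤ wlen P w := by
    intro w
    obtain ⟨l, hl, e⟩ := exists_wword w
    have : w⁻¹ = (l.reverse.map (wMap P)).prod := by
      rw [← e, List.prod_inv_reverse, List.map_map, List.map_reverse]
      congr 1
      exact congrArg List.reverse
        (List.map_congr_left fun s _ => inv_eq_of_mul_eq_one_right (wMap_mul_self s))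
    rw [this, ← hl, ← List.length_reverse (as := l)]
    exact wlen_le _
  exact le_antisymm (key w) (by simpa using key w⁻¹)

lemma wlen_one : wlen P (1 : WG P) = 0 := by
  have : (1 : WG P) = QuotientGroup.mk (⟨1, one_mem _⟩ : P.N) := rfl
  rw [this, wlen_mk, len_eq_zero (one_mem _)]
  exact one_mem _

lemma wlen_cross (i j : P.S) (w : WG P) (h1 : wlen P (wMap P i * w) = wlen P w + 1)
    (h2 : wlen P (w * wMap P j) = wlen P w + 1)
    (h3 : wlen P (wMap P i * w * wMap P j) = wlen P w) : wMap P i * w = w * wMap P j := by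
  obtain ⟨l, hl, e⟩ := exists_wword w
  have hprod : ((l ++ [j]).map (wMap P)).prod = w * wMap P j := by simp [e]
  have hred : Cox.Reduced (wMap P) (l ++ [j]) := by
    intro l' hl'
    have := wlen_le l'
    rw [hl', hprod, h2] at this
    simp [hl, this]
  obtain ⟨l'', h'', e''⟩ := exists_wword (wMap P i * w * wMap P j)
  obtain ⟨a, x, c, hac, he⟩ := (wMap_props (P := P)).2.2.2 i (l ++ [j]) hred
    ⟨l'', by rw [e'', hprod, mul_assoc], by simp [h'', h3, hl]⟩
  rw [hprod] at he
  rcases List.eq_nil_or_concat' c with rfl | ⟨c', y, rfl⟩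
  · have := List.append_inj hac (by have := congrArg List.length hac; simpa using this)
    rw [List.append_nil, ← this.1, e, ← mul_assoc] at he
    calc wMap P i * w = wMap P i * w * wMap P j * wMap P j := by
          rw [mul_assoc (wMap P i * w), wMap_mul_self, mul_one]
      _ = _ := by rw [he]
  · exfalso
    have hac' : l ++ [j] = (a ++ x :: c') ++ [y] := by simpa using hac
    obtain ⟨hl2, hy⟩ := List.append_inj' hac' rfl
    cases hy
    have e3 : wMap P i * w = ((a ++ c').map (wMap P)).prod := by
      have : ((a ++ (c' ++ [j])).map (wMap P)).prod =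
          ((a ++ c').map (wMap P)).prod * wMap P j := by simp [mul_assoc]
      rw [this, ← mul_assoc] at he
      exact mul_right_cancel he
    have := wlen_le (P := P) (a ++ c')
    rw [← e3, h1, ← hl, hl2] at this
    simp only [List.length_append, List.length_cons] at this
    omega

local notation "Ω" => G ⧸ P.B

/-- The Bruhat class of an element. -/
def cls (g : G) : WG P := QuotientGroup.mk (⟨(bruhat (P := P) g).choose, (bruhat g).choose_spec.1⟩ : P.N)

lemma cls_eq_iff {g : G} {w : WG P} : cls g = w ↔ g ∈ cell P (rep P w) := by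
  obtain ⟨hn, hg⟩ := (bruhat (P := P) g).choose_spec
  constructor
  · rintro rfl
    rwa [cls, cell_eq_of_eqv (eqv_rep hn)]
  · intro h
    rw [cls, ← mk_rep w]
    exact mk_eq_iff.2 (eqv_of_mem_cells hn (rep_mem w) hg h)

variable [Fintype (G ⧸ P.B)]

lemma cls_congr {g h g' h' : G} (hg : (g : Ω) = (g' : Ω)) (hh : (h : Ω) = (h' : Ω)) :
    (cls (g⁻¹ * h) : WG P) = cls (g'⁻¹ * h') := by
  refine (cls_eq_iff.2 ?_).symm
  exact (cell_rep hg hh).1 (cls_eq_iff.1 rfl)

lemma cls_inv (g : G) : (cls g⁻¹ : WG P) = (cls g)⁻¹ := by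
  refine cls_eq_iff.2 ?_
  have h := inv_mem_cell (cls_eq_iff.1 (rfl : (cls g : WG P) = cls g))
  have e : Eqv P (rep P (cls g : WG P))⁻¹ (rep P (cls g : WG P)⁻¹) := by
    have h1 := eqv_rep (P := P) (inv_mem (rep_mem (cls g : WG P)))
    have h2 : (QuotientGroup.mk (⟨(rep P (cls g : WG P))⁻¹, inv_mem (rep_mem _)⟩ : P.N) : WG P) =
        (cls g)⁻¹ := by
      conv_rhs => rw [← mk_rep (cls g : WG P), ← QuotientGroup.mk_inv]
      rfl
    rw [h2] at h1
    exact eqv_symm h1
  rwa [← cell_eq_of_eqv e]

lemma cls_out (x y : Ω) {g h : G} (hg : (g : Ω) = x) (hh : (h : Ω) = y) :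
    (cls (x.out⁻¹ * y.out) : WG P) = cls (g⁻¹ * h) :=
  cls_congr (by rw [QuotientGroup.out_eq', hg]) (by rw [QuotientGroup.out_eq', hh])

variable (P) in
/-- The number of cosets in a cell. -/
def wk (w : WG P) : ℝ := ((∑ y : Ω, op P (rep P w) ((1 : G) : Ω) y : ℚ) : ℝ)

lemma row_sum (n : G) (x : Ω) :
    ∑ y : Ω, op P n x y = ∑ y : Ω, op P n ((1 : G) : Ω) y := by
  induction x using QuotientGroup.induction_on with | _ g => ?_
  refine Fintype.sum_equiv (MulAction.toPerm g⁻¹) _ _ fun y => ?_
  induction y using QuotientGroup.induction_on with | _ h => ?_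
  show _ = op P n _ (g⁻¹ • (h : Ω))
  rw [MulAction.Quotient.smul_coe, op_apply, op_apply, smul_eq_mul, inv_one, one_mul]

lemma op_rep_mul (s : P.S) (w : WG P) (h : wlen P (wMap P s * w) = wlen P w + 1) :
    op P (s : G) * op P (rep P w) = op P (rep P (wMap P s * w)) := by
  rw [op_congr (eqv_rep_mul s w), op_mul_up s.2 (rep_mem w)]
  rw [wlen_mul] at h
  rw [h, wlen]
  omega

lemma op_rep_wMap (s : P.S) : op P (rep P (wMap P s)) = op P (s : G) :=
  op_congr (eqv_rep (P.subset s.2))

open scoped Classical in
lemma op_rep_one : op P (rep P (1 : WG P)) = (1 : Matrix Ω Ω ℚ) := by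
  classical
  rw [show (1 : WG P) = QuotientGroup.mk (⟨1, one_mem _⟩ : P.N) from rfl,
    op_congr (eqv_rep (one_mem _)), op_eq_one (one_mem _)]

variable (P) in
/-- The datum of the Hecke algebra of the pair. -/
def datum : Datum (WG P) P.S where
  s := wMap P
  len := wlen P
  k := wk P
  sq := wMap_mul_self
  len_one := wlen_one
  len_inv := wlen_inv
  len_step := wlen_step
  exists_down w hw := by
    obtain ⟨l, hl, e⟩ := exists_wword w
    cases l with
    | nil => exact absurd e.symm hw
    | cons s m =>
      refine ⟨s, ?_⟩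
      have h1 : wMap P s * w = (m.map (wMap P)).prod := by
        rw [← e, List.map_cons, List.prod_cons, ← mul_assoc, wMap_mul_self, one_mul]
      have h2 := wlen_le (P := P) m
      rw [← h1] at h2
      rcases wlen_step s w with h | h
      · simp only [List.length_cons] at hl; omega
      · exact h
  cross := wlen_cross
  k_pos w := by
    rw [wk, Rat.cast_pos]
    refine Finset.sum_pos' (fun y _ => ?_) ⟨((rep P w : G) : Ω), Finset.mem_univ _, ?_⟩
    · induction y using QuotientGroup.induction_on with | _ h => ?_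
      rw [op_apply]; split_ifs <;> norm_num
    · rw [op_apply, inv_one, one_mul, if_pos (self_mem_cell _)]
      norm_num
  k_one := by
    classical
    rw [wk, op_rep_one]
    simp [Matrix.one_apply]
  k_inv w := by
    classical
    have key : ∑ x : Ω, ∑ y : Ω, op P (rep P w⁻¹) x y = ∑ x : Ω, ∑ y : Ω, op P (rep P w) x y := by
      have e : op P (rep P w⁻¹) = (op P (rep P w))ᵀ := by
        rw [op_transpose]
        refine op_congr ?_
        have h1 := eqv_rep (P := P) (inv_mem (rep_mem w))
        have h2 : (QuotientGroup.mk (⟨(rep P w)⁻¹, inv_mem (rep_mem w)⟩ : P.N) : WG P) = w⁻¹ := by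
          conv_rhs => rw [← mk_rep w, ← QuotientGroup.mk_inv]
          rfl
        rwa [h2] at h1
      rw [e]
      simp only [Matrix.transpose_apply]
      rw [Finset.sum_comm]
    simp only [row_sum, Finset.sum_const, Finset.card_univ, nsmul_eq_mul] at key
    rw [wk, wk, mul_left_cancel₀ (Nat.cast_ne_zero.2 Fintype.card_ne_zero) key]
  k_mul s w h := by
    classical
    rw [wk, wk, wk, ← op_rep_mul s w h, op_rep_wMap, ← Rat.cast_mul]
    congr 1
    simp only [Matrix.mul_apply]
    rw [Finset.sum_comm]
    simp only [← Finset.mul_sum, row_sum (rep P w), ← Finset.sum_mul]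

lemma wk_wMap (s : P.S) : wk P (wMap P s) = (ind P (s : G) : ℝ) := by
  have h := congrFun (op_mulVec_one (P := P) (s : G)) ((1 : G) : Ω)
  simp only [Matrix.mulVec, dotProduct, mul_one] at h
  rw [wk, op_rep_wMap, h]
  simp

variable (P) in
/-- The Hecke operator attached to a function on the Weyl group. -/
def theta : (WG P → ℂ) →ₗ[ℂ] Matrix Ω Ω ℂ where
  toFun v := Matrix.of fun x y => v (cls (x.out⁻¹ * y.out))
  map_add' _ _ := rfl
  map_smul' _ _ := rfl

lemma theta_apply (v : WG P → ℂ) (x y : Ω) : theta P v x y = v (cls (x.out⁻¹ * y.out)) := rfl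

/-- The complex incidence matrix. -/
def opC (n : G) : Matrix Ω Ω ℂ := (op P n).map (Rat.castHom ℂ)

lemma opC_mul (n n' : G) : opC (P := P) n * opC n' = (op P n * op P n').map (Rat.castHom ℂ) := by
  classical
  exact (Matrix.map_mul).symm

lemma theta_e [DecidableEq (WG P)] (w : WG P) :
    theta P (Datum.e w) = opC (rep P w) := by
  classical
  ext x y
  induction x using QuotientGroup.induction_on with | _ g => ?_
  induction y using QuotientGroup.induction_on with | _ h => ?_
  rw [theta_apply, opC, Matrix.map_apply, Datum.e, cls_out (g : Ω) (h : Ω) rfl rfl, op_apply, Pi.single_apply]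
  split_ifs with h1 h2 h2
  · simp
  · exact absurd (cls_eq_iff.1 h1) h2
  · exact absurd (cls_eq_iff.2 h2) h1
  · simp

lemma theta_injective : Function.Injective (theta P) := by
  intro u v h
  funext w
  have := congrFun (congrFun h ((1 : G) : Ω)) ((rep P w : G) : Ω)
  rw [theta_apply, theta_apply] at this
  rwa [cls_out _ _ rfl rfl, inv_one, one_mul, cls_eq_iff.2 (self_mem_cell _)] at this

lemma theta_smul (v : WG P → ℂ) (g : G) (x y : Ω) :
    theta P v (g • x) (g • y) = theta P v x y := by
  induction x using QuotientGroup.induction_on with | _ a => ?_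
  induction y using QuotientGroup.induction_on with | _ b => ?_
  rw [theta_apply, theta_apply, cls_out (g • (a : Ω)) (g • (b : Ω)) (MulAction.Quotient.smul_coe _ g a).symm
    (MulAction.Quotient.smul_coe _ g b).symm, cls_out (a : Ω) (b : Ω) rfl rfl]
  congr 2
  simp [mul_assoc]

lemma exists_theta {M : Matrix Ω Ω ℂ} (hM : ∀ (g : G) (x y : Ω), M (g • x) (g • y) = M x y) :
    ∃ v, theta P v = M := by
  refine ⟨fun w => M ((1 : G) : Ω) ((rep P w : G) : Ω), ?_⟩
  ext x y
  induction x using QuotientGroup.induction_on with | _ a => ?_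
  induction y using QuotientGroup.induction_on with | _ b => ?_
  rw [theta_apply, cls_out (a : Ω) (b : Ω) rfl rfl]
  obtain ⟨c, hc, c', hc', e⟩ := mem_cell.1 (cls_eq_iff.1 (rfl : (cls (a⁻¹ * b) : WG P) = _))
  have hb : (b : Ω) = (a * c) • ((rep P (cls (a⁻¹ * b) : WG P) : G) : Ω) := by
    rw [MulAction.Quotient.smul_coe, QuotientGroup.eq, smul_eq_mul]
    have e2 : b = a * c * rep P (cls (a⁻¹ * b) : WG P) * c' := by
      rw [mul_assoc, mul_assoc, ← mul_assoc c, ← e, mul_inv_cancel_left]
    have e3 : b⁻¹ * (a * c * rep P (cls (a⁻¹ * b) : WG P)) = c'⁻¹ := by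
      rw [inv_mul_eq_iff_eq_mul, eq_mul_inv_iff_mul_eq, ← e2]
    rw [e3]
    exact inv_mem hc'
  have ha : (a : Ω) = (a * c) • ((1 : G) : Ω) := by
    rw [MulAction.Quotient.smul_coe, QuotientGroup.eq, smul_eq_mul, mul_one, inv_mul_cancel_left]
    exact hc
  rw [hb, ha, hM]

lemma theta_L (s : P.S) (v : WG P → ℂ) :
    theta P ((datum P).L s 1 v) = opC (s : G) * theta P v := by
  classical
  haveI : Fintype (WG P) := Fintype.ofFinite _
  have hq : (datum P).q s 1 = (ind P (s : G) : ℂ) := by
    simp [Datum.q, datum, wk_wMap]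
  have hup : ∀ w, wlen P (wMap P s * w) = wlen P w + 1 →
      opC (P := P) (s : G) * opC (rep P w) = opC (rep P (wMap P s * w)) := fun w h => by
    rw [opC_mul, op_rep_mul s w h]; rfl
  suffices h : (theta P).comp ((datum P).L s 1) =
      (LinearMap.mulLeft ℂ (opC (P := P) (s : G))).comp (theta P) from LinearMap.congr_fun h v
  refine (Pi.basisFun ℂ (WG P)).ext fun w => ?_
  rw [Pi.basisFun_apply]
  show theta P ((datum P).L s 1 (Datum.e w)) = opC (s : G) * theta P (Datum.e w)
  rcases wlen_step s w with h | h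
  · rw [(datum P).L_e_up h, theta_e, theta_e, hup w h]; rfl
  · set w' := wMap P s * w with hw'
    have hw : wMap P s * w' = w := by rw [hw', ← mul_assoc, wMap_mul_self, one_mul]
    have h' : wlen P (wMap P s * w') = wlen P w' + 1 := by rw [hw]; omega
    have e1 : Datum.e w = (datum P).L s 1 (Datum.e w') := by
      rw [(datum P).L_e_up h']
      exact congrArg Datum.e hw.symm
    have e2 : theta P (Datum.e w) = opC (s : G) * theta P (Datum.e w') := by
      rw [theta_e, theta_e, hup w' h', hw]
    have hsq : opC (P := P) (s : G) * opC (s : G) =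
        ((datum P).q s 1 - 1) • opC (s : G) + (datum P).q s 1 • 1 := by
      rw [opC_mul, op_sq s.2, hq]
      ext x y
      simp [opC, Matrix.one_apply]
      split_ifs <;> simp
    rw [e1, ← Module.End.mul_apply, (datum P).L_sq, LinearMap.add_apply, LinearMap.smul_apply,
      LinearMap.smul_apply, Module.End.one_apply, ← e1, map_add, map_smul, map_smul, e2,
      ← mul_assoc, hsq, add_mul, smul_mul_assoc, smul_mul_assoc, one_mul]

lemma opC_symm (s : P.S) : (opC (P := P) (s : G))ᵀ = opC (s : G) := by
  rw [opC, ← Matrix.transpose_map, op_transpose, op_congr (inv_eqv_self s.2)]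

lemma theta_R (s : P.S) (v : WG P → ℂ) :
    theta P ((datum P).R s 1 v) = theta P v * opC (s : G) := by
  classical
  have hJ : ∀ u : WG P → ℂ, theta P (fun w => u w⁻¹) = (theta P u)ᵀ := by
    intro u
    ext x y
    rw [Matrix.transpose_apply, theta_apply, theta_apply, ← cls_inv, _root_.mul_inv_rev, inv_inv]
  have hR : (datum P).R s 1 v = fun w => (datum P).L s 1 (fun w => v w⁻¹) w⁻¹ := by
    funext w
    have e1 : (datum P).s s * w⁻¹ = (w * (datum P).s s)⁻¹ := ((datum P).inv_mul_s s w).symm
    simp only [Datum.L_apply, Datum.R_apply, e1, inv_inv, (datum P).len_inv]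
  rw [hR, hJ, theta_L, Matrix.transpose_mul, hJ, Matrix.transpose_transpose, opC_symm]

variable (P) in
/-- The count of constituents. -/
theorem card_constituents :
    Nat.card {χ : IrrCharacter G // ∃ φ : G → ℂ, IsCharacter G φ ∧
      Cfsg.fixedPointCharacter P.B = (χ : G → ℂ) + φ} = Nat.card (ConjClasses (WG P)) := by
  classical
  haveI : Fintype (WG P) := Fintype.ofFinite _
  haveI : Fintype P.S := Fintype.ofFinite _
  set ρ := CfsgLib.Chars.permRep G Ω
  have hchar : Cfsg.fixedPointCharacter P.B = ρ.character := by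
    funext g
    rw [CfsgLib.Chars.character_permRep]
    rfl
  have hcount : Nat.card {χ : IrrCharacter G // ∃ φ : G → ℂ, IsCharacter G φ ∧
      Cfsg.fixedPointCharacter P.B = (χ : G → ℂ) + φ} = finrank ℂ (centre ρ) := by
    rw [finrank_centre]
    exact Nat.card_congr (Equiv.subtypeEquivRight fun χ => by rw [hchar]; exact constituent_iff ρ χ)
  rw [hcount]
  let Φ : (WG P → ℂ) →ₗ[ℂ] End ℂ (Ω → ℂ) :=
    (Matrix.toLinAlgEquiv' (R := ℂ) (n := Ω)).toLinearMap.comp (theta P)
  have hΦ : Function.Injective Φ :=
    (Matrix.toLinAlgEquiv' (R := ℂ) (n := Ω)).injective.comp theta_injective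
  have hequi : ∀ M : Matrix Ω Ω ℂ,
      (∀ g, Commute (Matrix.toLinAlgEquiv' M) (ρ g)) ↔
        ∀ (g : G) (x y : Ω), M (g • x) (g • y) = M x y := by
    intro M
    have key : ∀ (g : G) (x z : Ω),
        (Matrix.toLinAlgEquiv' M (ρ g (Pi.single z 1))) x = M x (g • z) ∧
        (ρ g (Matrix.toLinAlgEquiv' M (Pi.single z 1))) x = M (g⁻¹ • x) z := by
      intro g x z
      have hs : ρ g (Pi.single z 1) = Pi.single (g • z) 1 := by
        funext u
        rw [CfsgLib.Chars.permRep_apply, Pi.single_apply, Pi.single_apply]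
        simp only [inv_smul_eq_iff]
      rw [hs, CfsgLib.Chars.permRep_apply]
      simp [Matrix.toLinAlgEquiv'_apply]
    constructor
    · intro h g x y
      have := congrFun (LinearMap.congr_fun (h g).eq (Pi.single y 1)) (g • x)
      simp only [Module.End.mul_apply] at this
      rw [(key g _ y).1, (key g _ y).2, inv_smul_smul] at this
      exact this
    · intro h g
      refine (Pi.basisFun ℂ Ω).ext fun z => funext fun x => ?_
      simp only [Pi.basisFun_apply, Module.End.mul_apply]
      rw [(key g x z).1, (key g x z).2, ← h g (g⁻¹ • x) z, smul_inv_smul]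
  have hopC : ∀ s : P.S, theta P (Datum.e (wMap P s)) = opC (s : G) := fun s => by
    rw [theta_e, opC, op_rep_wMap]; rfl
  have hcentre : centre ρ = (LinearMap.ker ((datum P).diff 1)).map Φ := by
    ext z
    obtain ⟨M, rfl⟩ := (Matrix.toLinAlgEquiv' (R := ℂ) (n := Ω)).surjective z
    constructor
    · rintro ⟨h1, h2⟩
      obtain ⟨v, rfl⟩ := exists_theta ((hequi M).1 h1)
      refine ⟨v, (datum P).mem_ker_diff.2 fun s => theta_injective ?_, rfl⟩
      have := h2 (Matrix.toLinAlgEquiv' (theta P (Datum.e (wMap P s))))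
        ((hequi _).2 fun g x y => theta_smul _ g x y)
      rw [hopC] at this
      have e := this.eq
      rw [← map_mul, ← map_mul] at e
      rw [theta_L, theta_R]
      exact ((Matrix.toLinAlgEquiv' (R := ℂ) (n := Ω)).injective e).symm
    · rintro ⟨v, hv, e⟩
      obtain rfl : theta P v = M := (Matrix.toLinAlgEquiv' (R := ℂ) (n := Ω)).injective e
      refine ⟨(hequi _).2 fun g x y => theta_smul v g x y, fun a ha => ?_⟩
      obtain ⟨M', rfl⟩ := (Matrix.toLinAlgEquiv' (R := ℂ) (n := Ω)).surjective a
      obtain ⟨u, rfl⟩ := exists_theta ((hequi M').1 ha)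
      refine (Commute.map ?_ _)
      have hgen : ∀ l : List P.S, (datum P).Red l →
          Commute (theta P v) (theta P (Datum.e ((datum P).prod l))) := by
        intro l
        induction l with
        | nil =>
          intro _
          rw [Datum.prod_nil, theta_e, opC, op_rep_one,
            Matrix.map_one (Rat.castHom ℂ) (map_zero (Rat.castHom ℂ)) (map_one (Rat.castHom ℂ))]
          exact Commute.one_right _
        | cons s l ih =>
          intro hl
          obtain ⟨hl1, hl2⟩ := Datum.Red.tail _ hl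
          rw [Datum.prod_cons, ← (datum P).L_e_up hl2 1, theta_L]
          refine Commute.mul_right ?_ (ih hl1)
          have := congrArg (theta P) ((datum P).mem_ker_diff.1 hv s)
          rw [theta_L, theta_R] at this
          exact this.symm
      have hu : theta P u = ∑ w, u w • theta P (Datum.e w) := by
        simp only [← map_smul, ← map_sum]
        congr 1
        funext w
        simp [Datum.e, Finset.sum_apply, Pi.single_apply]
      rw [hu]
      refine Commute.sum_right _ _ _ fun w _ => Commute.smul_right ?_ _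
      have h := (datum P).red_spec w
      have := hgen _ h.1
      rwa [h.2] at this
  rw [hcentre, ← LinearEquiv.finrank_eq (Submodule.equivMapOfInjective Φ hΦ _)]
  exact (datum P).finrank_ker_one

end CfsgLib.Chev.HeckeCenter
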